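import Mathlib.Topology.Irreducible
import Mathlib.Topology.Sober
import Mathlib.Topology.Inseparable

/-!
Irreducible components of sober spaces: images along generalizing maps, local finiteness and openness.
-/

set_option autoImplicit false

open Topology

namespace Groth.Agent.CompTopLib

variable {X Y : Type*} [TopologicalSpace X] [TopologicalSpace Y]

theorem closure_image_mem_irreducibleComponents [QuasiSober X] [QuasiSober Y] [T0Space Y] {f : X → Y}
    (hc : Continuous f) (hf : GeneralizingMap f) {T : Set X} (hT : T ∈ irreducibleComponents X) :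
    ∃ ξ, IsGenericPoint ξ T ∧ closure (f '' T) = closure {f ξ} ∧
      closure (f '' T) ∈ irreducibleComponents Y := by
  obtain ⟨ξ, hξ⟩ := QuasiSober.sober hT.1 (isClosed_of_mem_irreducibleComponents T hT)
  have e : closure (f '' T) = closure {f ξ} := by
    refine subset_antisymm (closure_minimal ?_ isClosed_closure)
      (closure_mono (Set.singleton_subset_iff.2 ⟨ξ, hξ.mem, rfl⟩))
    rintro _ ⟨x, hx, rfl⟩
    exact ((hξ.specializes hx).map hc).mem_closure
  refine ⟨ξ, hξ, e, e ▸ ⟨isIrreducible_singleton.closure, fun Z hZ hle => ?_⟩⟩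
  obtain ⟨z, hz⟩ := QuasiSober.sober hZ.closure isClosed_closure
  have hzξ : z ⤳ f ξ := hz.specializes (subset_closure (hle (subset_closure rfl)))
  obtain ⟨z', hz'ξ, rfl⟩ := hf hzξ
  have hT' : closure ({z'} : Set X) ⊆ T := hT.2 isIrreducible_singleton.closure (hξ.def ▸ hz'ξ.closure_subset)
  have hh : f ξ ⤳ f z' := (hξ.specializes (hT' (subset_closure rfl))).map hc
  exact subset_closure.trans (hz.def.ge.trans hh.closure_subset)

theorem isOpen_of_disjoint
    (hd : ∀ Z ∈ irreducibleComponents X, ∀ Z' ∈ irreducibleComponents X, Z ≠ Z' → Disjoint Z Z')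
    (hfin : ∀ x : X, ∃ U : Set X, IsOpen U ∧ x ∈ U ∧
      {Z ∈ irreducibleComponents X | (Z ∩ U).Nonempty}.Finite)
    {Z : Set X} (hZ : Z ∈ irreducibleComponents X) : IsOpen Z := by
  refine isOpen_iff_forall_mem_open.2 fun x hx => ?_
  obtain ⟨U, hU, hxU, hUfin⟩ := hfin x
  set D : Set X := ⋃ Z' ∈ {W ∈ irreducibleComponents X | (W ∩ U).Nonempty} \ {Z}, Z'
  have hD : IsClosed D :=
    hUfin.sdiff.isClosed_biUnion fun W hW => isClosed_of_mem_irreducibleComponents W hW.1.1
  refine ⟨U \ D, fun y hy => ?_, hU.sdiff hD, hxU, fun h => ?_⟩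
  · by_contra hyZ
    refine hy.2 (Set.mem_iUnion₂.2 ⟨irreducibleComponent y,
      ⟨⟨irreducibleComponent_mem_irreducibleComponents y, y, mem_irreducibleComponent, hy.1⟩, fun h => ?_⟩,
      mem_irreducibleComponent⟩)
    exact hyZ (Set.mem_singleton_iff.1 h ▸ mem_irreducibleComponent)
  · obtain ⟨W, hW, hxW⟩ := Set.mem_iUnion₂.1 h
    exact Set.disjoint_left.1 (hd W hW.1.1 Z hZ hW.2) hxW hx

theorem finite_meeting_of_finite_subspace {U : Set X} (hU : IsOpen U)
    (h : (irreducibleComponents U).Finite) :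
    {Z ∈ irreducibleComponents X | (Z ∩ U).Nonempty}.Finite := by
  refine Set.Finite.of_finite_image (f := fun Z : Set X => (Subtype.val ⁻¹' Z : Set U))
    (h.subset ?_) ?_
  · rintro _ ⟨Z, ⟨hZ, hne⟩, rfl⟩
    exact preimage_mem_irreducibleComponents hZ hU.isOpenEmbedding_subtypeVal
      (by simpa [Subtype.range_val] using hne)
  · intro Z hZ W hW e
    have key : ∀ A ∈ {Z ∈ irreducibleComponents X | (Z ∩ U).Nonempty}, closure (A ∩ U) = A := fun A hA =>
      subset_antisymm (closure_minimal Set.inter_subset_left (isClosed_of_mem_irreducibleComponents A hA.1))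
        (subset_closure_inter_of_isPreirreducible_of_isOpen hA.1.1.2 hU hA.2)
    have e' : Z ∩ U = W ∩ U := by
      have := congrArg (fun S => Subtype.val '' S) e
      simpa [Set.image_preimage_eq_inter_range, Subtype.range_val] using this
    rw [← key Z hZ, ← key W hW, e']

end Groth.Agent.CompTopLib
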